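import Groth.Agent.CartMod.K991.Push
import Groth.Agent.Fdesc.StructMod

/-!
# Quasi-coherent modules over `h_* O_X`, `h : X ⟶ Y` affine
-/

set_option autoImplicit false
universe u
open CategoryTheory AlgebraicGeometry TopologicalSpace Limits Opposite

namespace K991.CartMod

open Groth.Agent.CohqB.QC2

/-- Quasi-coherent module on an affine open `W` with prescribed sections. -/
theorem exists_qcoh_on {X : Scheme.{u}} {W : X.Opens} (hW : IsAffineOpen W) (K : Type u) [AddCommGroup K]
    [Module Γ(X, W) K] : ∃ (T : W.toScheme.Modules) (_ : T.IsQuasicoherent)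
      (θ : K ≃+ Γ((Scheme.Modules.pushforward W.ι).obj T, W)), ∀ (r : Γ(X, W)) (x : K), θ (r • x) = r • θ x := by
  have : IsAffine W.toScheme := hW
  let _ : Module Γ(W, ⊤) K := Module.compHom K W.topIso.hom.hom
  obtain ⟨T, hT, ⟨e⟩⟩ := Groth.Agent.CohqA.PullbackAffine.exists_qcoh_of_module W.toScheme K
  have h1 : W.ι ⁻¹ᵁ W = ⊤ := W.ι_preimage_self
  refine ⟨T, hT, e.toAddEquiv.trans (AddEquiv.ofBijective (res T h1.le) (res_injective_of_eq T h1.le h1.symm)),
    fun r x => ?_⟩
  obtain ⟨s, rfl⟩ := (ConcreteCategory.bijective_of_isIso W.topIso.hom).2 r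
  change res T h1.le (e ((W.topIso.hom s) • x)) = W.ι.app W (W.topIso.hom s) • res T h1.le (e x)
  have h2 : e ((W.topIso.hom s) • x) = s • e x := e.map_smul s x
  rw [h2, res_smul]
  congr 1
  change X.presheaf.map _ s = (X.presheaf.map _ ≫ X.presheaf.map _) s
  rw [← Functor.map_comp]
  rfl

section

variable {X Y : Scheme.{u}} (h : X ⟶ Y)

/-- The adjunction `v^* ⊣ v_*`. -/
noncomputable abbrev vAdj :=
  SheafOfModules.pullbackPushforwardAdjunction (F := Opens.map h.base) (R := X.ringCatSheaf) (𝟙 (pR h))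

/-- The inverse image `v^*`. -/
noncomputable abbrev vI : SheafOfModules.{u} (pR h) ⥤ X.Modules :=
  SheafOfModules.pullback (F := Opens.map h.base) (R := X.ringCatSheaf) (𝟙 (pR h))

theorem isQCoh_rs_vP [IsAffineHom h] (M : X.Modules) [M.IsQuasicoherent] : Coh.IsQCoh ((rs h).obj ((vP h).obj M)) :=
  Groth.Agent.Ega1.QcqsPush.isQCoh_pushforward h M inferInstance

theorem isQCoh_rs_unit [IsAffineHom h] : Coh.IsQCoh ((rs h).obj (SheafOfModules.unit (pR h))) := by
  have : Coh.IsQCoh (Coh.structureModule X) := Groth.Agent.Fdesc.StructMod.isQCoh_structureModule X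
  exact isQCoh_rs_vP h (Coh.structureModule X)

/-- The local structure of `v^* N`. -/
theorem exists_local [IsAffineHom h] (N : SheafOfModules.{u} (pR h)) {V : Y.Opens} (hV : IsAffineOpen V)
    (hN : Coh.IsQCoh ((rs h).obj N)) :
    ∃ (T : (h ⁻¹ᵁ V).toScheme.Modules) (_ : T.IsQuasicoherent)
      (F : N ⟶ (vP h).obj ((Scheme.Modules.pushforward (h ⁻¹ᵁ V).ι).obj T)),
      Function.Bijective (((rs h).map F).app V) ∧
      IsIso ((Scheme.Modules.restrictFunctor (h ⁻¹ᵁ V).ι).map (((vAdj h).homEquiv _ _).symm F)) := by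
  have hW : IsAffineOpen (h ⁻¹ᵁ V) := hV.preimage h
  let _ : Module Γ(X, h ⁻¹ᵁ V) Γ((rs h).obj N, V) :=
    (inferInstance : Module ((pR h).obj.obj (op V)) (N.val.obj (op V)))
  obtain ⟨T, hT, θ, hθ⟩ := exists_qcoh_on hW Γ((rs h).obj N, V)
  let k := (h ⁻¹ᵁ V).ι
  have hloc : ∀ G : (h ⁻¹ᵁ V).toScheme.Modules, LocalTo ((Scheme.Modules.pushforward k).obj G) (h ⁻¹ᵁ V) :=
    localTo_pushforward (h ⁻¹ᵁ V)
  obtain ⟨F, hF⟩ := exists_vhom h N hV hN _ (hloc T) θ.toAddMonoidHom hθ
  have hTq : (((Scheme.Modules.pushforward k).obj T).restrict k).IsQuasicoherent :=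
    isQuasicoherent_of_iso ((Scheme.Modules.restrictFunctorAdjCounitIso k).app T).symm hT
  refine ⟨T, hT, F, ?_, ?_⟩
  · have : ⇑(((rs h).map F).app V) = θ := funext hF
    rw [this]
    exact θ.bijective
  set τ := ((vAdj h).homEquiv _ _).symm F with hτ
  rw [isIso_iff_coyoneda_map_bijective]
  intro G
  -- reduce to homs into `v_* k_* G`
  have key : Function.Bijective (fun s : (Scheme.Modules.pushforward k).obj T ⟶
      (Scheme.Modules.pushforward k).obj G => F ≫ (vP h).map s) := by
    constructor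
    · intro s s' hs
      refine hom_ext_of_localTo hW hTq (hloc G) fun x => ?_
      obtain ⟨y, rfl⟩ := θ.surjective x
      have h1 := congrArg (fun q : N ⟶ (vP h).obj ((Scheme.Modules.pushforward k).obj G) =>
        ((rs h).map q).app V y) hs
      have h2 : ∀ s : (Scheme.Modules.pushforward k).obj T ⟶ (Scheme.Modules.pushforward k).obj G,
          (show Γ((Scheme.Modules.pushforward k).obj G, h ⁻¹ᵁ V) from
            ((rs h).map (F ≫ (vP h).map s)).app V y) = s.app (h ⁻¹ᵁ V) (θ y) := by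
        intro s
        change s.app (h ⁻¹ᵁ V) (((rs h).map F).app V y) = _
        exact congrArg (s.app (h ⁻¹ᵁ V)) (hF y)
      rw [← h2, ← h2]
      exact h1
    · intro H
      obtain ⟨s, hs⟩ := exists_hom_of_localTo _ _ hW hTq (hloc G)
        ((((rs h).map H).app V).hom.comp θ.symm.toAddMonoidHom) (fun r x => by
          obtain ⟨y, rfl⟩ := θ.surjective x
          change (show Γ((Scheme.Modules.pushforward k).obj G, h ⁻¹ᵁ V) from
            ((rs h).map H).app V (θ.symm (r • θ y))) =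
              r • (show Γ((Scheme.Modules.pushforward k).obj G, h ⁻¹ᵁ V) from
                ((rs h).map H).app V (θ.symm (θ y)))
          rw [← hθ, AddEquiv.symm_apply_apply, AddEquiv.symm_apply_apply]
          exact map_sm h H r y)
      refine ⟨s, ?_⟩
      refine vhom_ext h hV hN (hloc G) fun y => ?_
      change s.app (h ⁻¹ᵁ V) (((rs h).map F).app V y) = _
      have h3 : ((rs h).map F).app V y = θ y := hF y
      rw [h3, hs]
      change ((rs h).map H).app V (θ.symm (θ y)) = _
      rw [AddEquiv.symm_apply_apply]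
  have h2 : Function.Bijective (fun s : (Scheme.Modules.pushforward k).obj T ⟶
      (Scheme.Modules.pushforward k).obj G => τ ≫ s) := by
    have h3 : (fun s : (Scheme.Modules.pushforward k).obj T ⟶ (Scheme.Modules.pushforward k).obj G =>
        F ≫ (vP h).map s) = ⇑((vAdj h).homEquiv _ _) ∘ (fun s => τ ≫ s) := by
      ext1 s
      rw [Function.comp_apply, Adjunction.homEquiv_naturality_right, hτ, Equiv.apply_symm_apply]
    rw [h3] at key
    exact (Function.Bijective.of_comp_iff' ((vAdj h).homEquiv _ _).bijective _).1 key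
  have h4 : (fun s => (Scheme.Modules.restrictFunctor k).map τ ≫ s) =
      ⇑((Scheme.Modules.restrictAdjunction k).homEquiv _ G).symm ∘
      (fun s : (Scheme.Modules.pushforward k).obj T ⟶ (Scheme.Modules.pushforward k).obj G => τ ≫ s) ∘
      ⇑((Scheme.Modules.restrictAdjunction k).homEquiv _ G) := by
    ext1 s
    simp only [Function.comp_apply]
    rw [Adjunction.homEquiv_naturality_left_symm, Equiv.symm_apply_apply]
  rw [h4]
  exact (Equiv.bijective _).comp (h2.comp (Equiv.bijective _))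

theorem bijective_app_of_isIso_restrict {X : Scheme.{u}} {M N : X.Modules} (φ : M ⟶ N) (W : X.Opens)
    (hφ : IsIso ((Scheme.Modules.restrictFunctor W.ι).map φ)) : Function.Bijective (φ.app W) := by
  have h1 : Function.Bijective (((Scheme.Modules.restrictFunctor W.ι).map φ).app ⊤) :=
    ConcreteCategory.bijective_of_isIso _
  have key : ∀ V : X.Opens, V = W → Function.Bijective (φ.app V) → Function.Bijective (φ.app W) := by
    rintro _ rfl h2
    exact h2
  exact key (W.ι ''ᵁ ⊤) (Scheme.Opens.ι_image_top _) h1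

theorem isQCoh_vI [IsAffineHom h] (N : SheafOfModules.{u} (pR h)) (hN : Coh.IsQCoh ((rs h).obj N)) :
    Coh.IsQCoh ((vI h).obj N) := by
  refine isQuasicoherent_of_cover _ (fun V : Y.affineOpens => h ⁻¹ᵁ V.1) ?_ fun V => ?_
  · rw [IsOpenCover, eq_top_iff]
    intro x _
    obtain ⟨V, hV, hxV, -⟩ := exists_isAffineOpen_mem_and_subset (U := (⊤ : Y.Opens)) (x := h x) trivial
    exact Opens.mem_iSup.2 ⟨⟨V, hV⟩, hxV⟩
  · obtain ⟨T, hT, F, -, hF⟩ := exists_local h N V.2 hN
    refine isQuasicoherent_of_iso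
      ((@asIso _ _ _ _ ((Scheme.Modules.restrictFunctor (h ⁻¹ᵁ V.1).ι).map (((vAdj h).homEquiv _ _).symm F)) hF).trans
        ((Scheme.Modules.restrictFunctorAdjCounitIso (h ⁻¹ᵁ V.1).ι).app T)).symm hT

theorem bijective_unit_app [IsAffineHom h] (N : SheafOfModules.{u} (pR h)) (hN : Coh.IsQCoh ((rs h).obj N))
    {V : Y.Opens} (hV : IsAffineOpen V) :
    Function.Bijective (((rs h).map ((vAdj h).unit.app N)).app V) := by
  obtain ⟨T, hT, F, hF1, hF2⟩ := exists_local h N hV hN
  obtain ⟨τ, hτ⟩ : ∃ τ : (show X.Modules from (vI h).obj N) ⟶ (Scheme.Modules.pushforward (h ⁻¹ᵁ V).ι).obj T,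
    τ = ((vAdj h).homEquiv _ _).symm F := ⟨_, rfl⟩
  rw [← hτ] at hF2
  have h1 : (vAdj h).unit.app N ≫ (vP h).map τ = F := by
    refine ((vAdj h).homEquiv_unit (f := τ)).symm.trans ?_
    rw [hτ, Equiv.apply_symm_apply]
  have h2 := bijective_app_of_isIso_restrict τ _ hF2
  rw [← h1] at hF1
  have h3 : ⇑(((rs h).map ((vAdj h).unit.app N ≫ (vP h).map τ)).app V) =
      ⇑(τ.app (h ⁻¹ᵁ V)) ∘ ⇑(((rs h).map ((vAdj h).unit.app N)).app V) := rfl
  rw [h3] at hF1
  exact (Function.Bijective.of_comp_iff' h2 _).1 hF1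

theorem isIso_unit [IsAffineHom h] (N : SheafOfModules.{u} (pR h)) (hN : Coh.IsQCoh ((rs h).obj N)) :
    IsIso ((vAdj h).unit.app N) := by
  have : IsIso ((rs h).map ((vAdj h).unit.app N)) := by
    refine Groth.Agent.CohqA.PullbackQCoh.isIso_of_bijective_basis _ (ι := Y.affineOpens) Subtype.val ?_
      fun V => bijective_unit_app h N hN V.2
    rw [Subtype.range_coe_subtype]
    exact Y.isBasis_affineOpens
  exact isIso_of_reflects_iso ((vAdj h).unit.app N) (rs h)

theorem isIso_counit [IsAffineHom h] (M : X.Modules) (hM : Coh.IsQCoh M) :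
    IsIso ((vAdj h).counit.app M) := by
  have : M.IsQuasicoherent := hM
  have h0 : Coh.IsQCoh ((rs h).obj ((vP h).obj M)) := isQCoh_rs_vP h M
  have h1 : IsIso ((vAdj h).unit.app ((vP h).obj M)) := isIso_unit h _ h0
  have h2 : ((vI h).obj ((vP h).obj M)).IsQuasicoherent := isQCoh_vI h _ h0
  have h3 : IsIso ((vP h).map ((vAdj h).counit.app M)) := by
    have := (vAdj h).right_triangle_components M
    exact IsIso.of_isIso_fac_left this
  refine @Groth.Agent.CohqA.PullbackQCoh.isIso_of_bijective_affineCover X _ _ h2 hM _ _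
    (fun V : Y.affineOpens => h ⁻¹ᵁ V.1) ?_ (fun V => V.2.preimage h) fun V => ?_
  · rw [eq_top_iff]
    intro x _
    obtain ⟨V, hV, hxV, -⟩ := exists_isAffineOpen_mem_and_subset (U := (⊤ : Y.Opens)) (x := h x) trivial
    exact Opens.mem_iSup.2 ⟨⟨V, hV⟩, hxV⟩
  · have h4 : IsIso ((rs h).map ((vP h).map ((vAdj h).counit.app M))) := inferInstance
    exact ConcreteCategory.bijective_of_isIso (((rs h).map ((vP h).map ((vAdj h).counit.app M))).app V.1)

theorem isQuasicoherent_vP [IsAffineHom h] (M : X.Modules) [M.IsQuasicoherent] :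
    SheafOfModules.IsQuasicoherent (R := pR h) ((vP h).obj M) :=
  Groth.Agent.Ega1.QAlg.isQuasicoherent_of_isQCoh_restrictScalars _ (isQCoh_rs_unit h) _ (isQCoh_rs_vP h M)

theorem isQCoh_rs [IsAffineHom h] (N : SheafOfModules.{u} (pR h)) [N.IsQuasicoherent] :
    Coh.IsQCoh ((rs h).obj N) :=
  Groth.Agent.Ega1.QAlg.isQCoh_restrictScalars _ (isQCoh_rs_unit h) _ inferInstance

end

end K991.CartMod
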