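import Groth.Agent.FlatB.PushMain
import Groth.Agent.Flat2C.AffineThickening

/-!
# The continuous map underlying a thickening of an affine morphism

`T ⟶ Tc` a surjective closed immersion, `u : T ⟶ U` affine, `g : |Tc| ⟶ |U|` the induced continuous map.
Then there is a scheme `Y` with underlying space `|U|` and an affine morphism `h : Tc ⟶ Y` with underlying map
`g` (`exists_model`).
-/

set_option autoImplicit false
universe u
open CategoryTheory AlgebraicGeometry TopologicalSpace Limits

namespace K991.CartMod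

/-- A closed immersion with nilpotent kernel is surjective. -/
theorem surjective_of_nilpotent {T Tc : Scheme.{u}} (i : T ⟶ Tc) [IsClosedImmersion i]
    (hnil : ∃ n : ℕ, ∀ V : Tc.affineOpens, i.ker.ideal V ^ n = ⊥) : Function.Surjective i := by
  obtain ⟨n, hn⟩ := hnil
  rw [← Set.range_eq_univ]
  have h1 : Set.range i = (i.ker.support : Set Tc) := by
    rw [Scheme.Hom.support_ker]
    exact i.isClosedEmbedding.isClosed_range.closure_eq.symm
  rw [h1, Set.eq_univ_iff_forall]
  intro x
  obtain ⟨V, hV, hx, -⟩ := exists_isAffineOpen_mem_and_subset (U := (⊤ : Tc.Opens)) (x := x) trivial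
  have h2 : x ∈ (i.ker.support : Set Tc) ∩ V := by
    rw [Scheme.IdealSheafData.coe_support_inter _ ⟨V, hV⟩]
    refine ⟨?_, hx⟩
    rw [Scheme.mem_zeroLocus_iff]
    intro (f : Γ(Tc, V)) hf hxf
    have hf' : f ^ n = 0 := by
      have := Ideal.pow_mem_pow hf n
      rw [hn ⟨V, hV⟩] at this
      exact this
    by_cases hn0 : n = 0
    · subst hn0
      rw [pow_zero] at hf'
      have h3 : (f : Γ(Tc, V)) = 0 := by rw [← one_mul f, hf', zero_mul]
      have h4 : x ∈ Tc.basicOpen f := hxf
      rw [h3, Scheme.basicOpen_zero] at h4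
      exact h4
    · have h3 : x ∈ Tc.basicOpen (f ^ n) := by
        rw [Scheme.basicOpen_pow _ f (Nat.pos_of_ne_zero hn0)]
        exact hxf
      rw [hf', Scheme.basicOpen_zero] at h3
      exact h3
  exact h2.1

/-- The scheme with underlying space `|U|`. -/
theorem exists_model {T Tc U : Scheme.{u}} (i : T ⟶ Tc) [IsClosedImmersion i] (hi : Function.Surjective i)
    (u : T ⟶ U) [IsAffineHom u] (g : Tc.carrier ⟶ U.carrier) (hg : i.base ≫ g = u.base) :
    ∃ (C : TopCat.{u}) (Y : Scheme.{u}) (e : C = U.carrier) (e' : Y.carrier = C) (h : Tc ⟶ Y),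
      IsAffineHom h ∧ h.base ≫ eqToHom (e'.trans e) = g := by
  obtain ⟨W, a, b, h1, -, h3, h5, -, -, h4⟩ := Groth.Agent.FlatB.PushMain.exists_pushout' i u (fun y => by
    obtain ⟨V, hV, hyV, -⟩ := exists_isAffineOpen_mem_and_subset (U := (⊤ : U.Opens)) (x := y) trivial
    let e : T ≃ₜ Tc := i.isClosedEmbedding.toHomeomorph.trans
      ((Homeomorph.setCongr hi.range_eq).trans (Homeomorph.Set.univ _))
    have he : ∀ x, e x = i x := fun x => rfl
    let U' : Tc.Opens := ⟨e.symm ⁻¹' (u ⁻¹ᵁ V : Set T), (u ⁻¹ᵁ V).isOpen.preimage e.symm.continuous⟩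
    have hU : i ⁻¹ᵁ U' = u ⁻¹ᵁ V := by
      ext x
      change e.symm (i x) ∈ (u ⁻¹ᵁ V : Set T) ↔ _
      rw [← he, e.symm_apply_apply]
    refine ⟨U', V, ?_, hV, hyV, hU⟩
    have : IsAffine (i ⁻¹ᵁ U').toScheme := by rw [hU]; exact hV.preimage u
    have : Surjective i := ⟨hi⟩
    have : Surjective (i ∣_ U') := IsZariskiLocalAtTarget.restrict (P := @Surjective) this U'
    exact Groth.Agent.Flat2C.AffineThickening.isAffine_of_thickening (i ∣_ U'))
  have hb : Function.Surjective b := h4 hi
  have hbE : Topology.IsOpenEmbedding b.base := by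
    refine ⟨b.isClosedEmbedding.isEmbedding, ?_⟩
    have : Set.range b = Set.univ := hb.range_eq
    rw [this]
    exact isOpen_univ
  let Y : Scheme.{u} := W.restrict (U := U.carrier) (f := b.base) hbE
  let o : Y ⟶ W := W.ofRestrict hbE
  have ho : Epi o.base := by
    rw [TopCat.epi_iff_surjective]
    exact hb
  have ho' : IsIso o := IsOpenImmersion.isIso o
  let h : Tc ⟶ Y := a ≫ inv o
  have hh : IsAffineHom h := inferInstance
  let h0 : Tc.carrier ⟶ U.carrier := h.base
  have hbase : h0 = g := by
    have hm : Mono b.base := by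
      rw [TopCat.mono_iff_injective]
      exact b.isClosedEmbedding.injective
    have hepi : Epi i.base := by
      rw [TopCat.epi_iff_surjective]
      exact hi
    rw [← cancel_mono b.base, ← cancel_epi i.base]
    have e1 : h ≫ o = a := by rw [Category.assoc, IsIso.inv_hom_id, Category.comp_id]
    have e2 : h0 ≫ b.base = a.base := congrArg (fun f => f.base) e1
    rw [e2, reassoc_of% hg]
    exact congrArg (fun f => f.base) h1.w
  refine ⟨U.carrier, Y, rfl, rfl, h, hh, ?_⟩
  exact (Category.comp_id h0).trans hbase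

end K991.CartMod
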