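import Groth.Agent.Ega1.QAlg
import Groth.Agent.Ega1.QcqsPush
import Groth.Agent.CohqA.PullbackQCoh
import Groth.Agent.CartMod.K991.Model
import Groth.Agent.CohqB.AlgMod
import Groth.Agent.FormalB.QcSect

/-!
# Direct image to modules over `h_* O_X`, `h : X ⟶ Y` affine
-/

set_option autoImplicit false
universe u
open CategoryTheory AlgebraicGeometry TopologicalSpace Limits Opposite

namespace K991.CartMod

open Groth.Agent.CohqB.QC2

/-- Reduction of statements about the continuous map underlying a thickening of an affine morphism to statements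
about affine morphisms. -/
theorem of_model {T Tc U : Scheme.{u}} (i : T ⟶ Tc) [IsClosedImmersion i]
    (hnil : ∃ n : ℕ, ∀ V : Tc.affineOpens, i.ker.ideal V ^ n = ⊥)
    (u : T ⟶ U) [IsAffineHom u] (g : Tc.carrier ⟶ U.carrier) (hg : i.base ≫ g = u.base)
    (P : ∀ (C : TopCat.{u}) (_ : Tc.carrier ⟶ C), Prop)
    (hP : ∀ (Y : Scheme.{u}) (h : Tc ⟶ Y) [IsAffineHom h], P Y.carrier h.base) : P U.carrier g := by
  obtain ⟨C, Y, e, e', h, hh, hb⟩ := exists_model i (surjective_of_nilpotent i hnil) u g hg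
  have key : ∀ (C : TopCat.{u}) (e : Y.carrier = C) (g : Tc.carrier ⟶ C), h.base ≫ eqToHom e = g → P C g := by
    rintro C rfl g rfl
    simpa using hP Y h
  exact key _ _ _ hb

section

variable {X Y : Scheme.{u}} (h : X ⟶ Y)

/-- The sheaf of rings `h_* O_X`. -/
noncomputable abbrev pR : Sheaf (Opens.grothendieckTopology Y) RingCat.{u} :=
  ((Opens.map h.base).sheafPushforwardContinuous RingCat.{u} (Opens.grothendieckTopology Y)
    (Opens.grothendieckTopology X)).obj X.ringCatSheaf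

/-- The direct image `v_*`. -/
noncomputable abbrev vP : X.Modules ⥤ SheafOfModules.{u} (pR h) :=
  SheafOfModules.pushforward (F := Opens.map h.base) (R := X.ringCatSheaf) (𝟙 (pR h))

/-- Restriction of scalars to `O_Y`. -/
noncomputable abbrev rs : SheafOfModules.{u} (pR h) ⥤ Y.Modules :=
  SheafOfModules.restrictScalars (R := Y.ringCatSheaf) (R' := pR h) h.toRingCatSheafHom

theorem rs_vP_obj (M : X.Modules) : (rs h).obj ((vP h).obj M) = (Scheme.Modules.pushforward h).obj M := rfl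

instance : (rs h).Faithful := Groth.Agent.Ega1.ModToSheaf.faithful_restrictScalars _

instance : (rs h).ReflectsIsomorphisms := Groth.Agent.Ega1.ModToSheaf.reflectsIsomorphisms_restrictScalars _

theorem epi_vP_map [IsAffineHom h] {M N : X.Modules} [M.IsQuasicoherent] [N.IsQuasicoherent] (φ : M ⟶ N)
    [Epi φ] : Epi ((vP h).map φ) := by
  have h1 : Epi ((Scheme.Modules.pushforward h).map φ) := by
    refine Groth.Agent.CohqB.AlgMod.epi_of_surjective_affine _ fun V hV => ?_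
    exact Groth.Agent.FormalB.QcSect.surjective_app_of_epi φ (hV.preimage h)
  exact (rs h).epi_of_epi_map (f := (vP h).map φ) h1

end

section Local

variable {Y : Scheme.{u}}

/-- `P` is local to `V`. -/
def LocalTo (P : Y.Modules) (V : Y.Opens) : Prop :=
  ∀ O : Y.Opens, Function.Bijective (res P (inf_le_right : V ⊓ O ≤ O))

theorem LocalTo.isIso_unit {P : Y.Modules} {V : Y.Opens} (hP : LocalTo P V) :
    IsIso ((Scheme.Modules.restrictAdjunction V.ι).unit.app P) := by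
  refine Groth.Agent.CohqA.PullbackQCoh.isIso_of_bijective_basis _ (ι := Y.Opens) id
    (Opens.isBasis_iff_nbhd.2 fun {U x} hx => ⟨U, ⟨U, rfl⟩, hx, le_rfl⟩) fun O => ?_
  have h1 : V.ι ''ᵁ (V.ι ⁻¹ᵁ O) = V ⊓ O := by
    rw [Scheme.Hom.image_preimage_eq_opensRange_inf, Scheme.Opens.opensRange_ι]
  have h2 : V.ι ''ᵁ (V.ι ⁻¹ᵁ O) ≤ O := h1.le.trans inf_le_right
  change Function.Bijective (res P h2)
  have h3 : ⇑(res P h2) = ⇑(res P h1.le) ∘ ⇑(res P (inf_le_right : V ⊓ O ≤ O)) := by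
    ext x
    exact (res_res P _ _ x).symm
  rw [h3]
  exact (res_injective_of_eq P h1.le h1.symm).comp (hP O)

theorem exists_hom_of_localTo (M P : Y.Modules) {V : Y.Opens} (hV : IsAffineOpen V)
    (hM : (M.restrict V.ι).IsQuasicoherent) (hP : LocalTo P V) (α : Γ(M, V) →+ Γ(P, V))
    (hα : ∀ (r : Γ(Y, V)) (x : Γ(M, V)), α (r • x) = r • α x) : ∃ φ : M ⟶ P, ∀ x, φ.app V x = α x := by
  have hVa : IsAffine V.toScheme := hV
  have hV1 : V.ι ''ᵁ ⊤ = V := Scheme.Opens.ι_image_top _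
  let α' : Γ(M.restrict V.ι, ⊤) →ₗ[Γ(V, ⊤)] Γ(P.restrict V.ι, ⊤) :=
    { toFun := fun x => (invM P V.ι ⊤).symm (res P hV1.le (α (res M hV1.ge (invM M V.ι ⊤ x))))
      map_add' := fun x y => by simp only [map_add]
      map_smul' := fun r x => by
        apply (invM P V.ι ⊤).injective
        rw [AddEquiv.apply_symm_apply, invM_smul, res_smul, hα, res_smul, RingHom.id_apply, invM_smul,
          AddEquiv.apply_symm_apply, resR_resR, resR_rfl] }
  obtain ⟨ψ, hψ, -⟩ := Groth.Agent.CohqA.PullbackAffine.existsUnique_hom (M.restrict V.ι) (P.restrict V.ι) α'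
  have := hP.isIso_unit
  refine ⟨(Scheme.Modules.restrictAdjunction V.ι).homEquiv _ _ ψ ≫
    inv ((Scheme.Modules.restrictAdjunction V.ι).unit.app P), fun x => ?_⟩
  set φ := (Scheme.Modules.restrictAdjunction V.ι).homEquiv _ _ ψ ≫
    inv ((Scheme.Modules.restrictAdjunction V.ι).unit.app P) with hφ
  have h2 : φ ≫ (Scheme.Modules.restrictAdjunction V.ι).unit.app P =
      (Scheme.Modules.restrictAdjunction V.ι).unit.app M ≫ (Scheme.Modules.pushforward V.ι).map ψ := by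
    rw [hφ, Category.assoc, IsIso.inv_hom_id, Category.comp_id, Adjunction.homEquiv_unit]
  have h3 : V.ι ''ᵁ (V.ι ⁻¹ᵁ V) = V := by
    rw [Scheme.Hom.image_preimage_eq_opensRange_inf, Scheme.Opens.opensRange_ι, inf_idem]
  have h4 : res P h3.le (φ.app V x) = ψ.app (V.ι ⁻¹ᵁ V) (res M h3.le x) :=
    congrArg (fun q => q.app V x) h2
  apply (res_injective_of_eq P h3.le h3.symm).1
  rw [h4]
  have h5 : V.ι ⁻¹ᵁ V ≤ ⊤ := le_top
  have h6 := app_res ψ h5 ((invM M V.ι ⊤).symm (res M hV1.le x))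
  have h7 : res (M.restrict V.ι) h5 ((invM M V.ι ⊤).symm (res M hV1.le x)) =
      (invM M V.ι _).symm (res M h3.le x) := by
    apply (invM M V.ι _).injective
    rw [invM_res, AddEquiv.apply_symm_apply, AddEquiv.apply_symm_apply, res_res]
  rw [h7] at h6
  refine h6.trans ?_
  rw [hψ]
  change res (P.restrict V.ι) h5 ((invM P V.ι ⊤).symm (res P hV1.le (α (res M hV1.ge
    (invM M V.ι ⊤ ((invM M V.ι ⊤).symm (res M hV1.le x))))))) = _
  rw [AddEquiv.apply_symm_apply, res_res, res_rfl]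
  apply (invM P V.ι _).injective
  rw [invM_res, AddEquiv.apply_symm_apply, res_res]
  rfl

theorem hom_ext_of_localTo {M P : Y.Modules} {V : Y.Opens} (hV : IsAffineOpen V)
    (hM : (M.restrict V.ι).IsQuasicoherent) (hP : LocalTo P V) {φ ψ : M ⟶ P}
    (hφ : ∀ x, φ.app V x = ψ.app V x) : φ = ψ := by
  have hVa : IsAffine V.toScheme := hV
  have hV1 : V.ι ''ᵁ ⊤ = V := Scheme.Opens.ι_image_top _
  have := hP.isIso_unit
  have h1 : (Scheme.Modules.restrictFunctor V.ι).map φ = (Scheme.Modules.restrictFunctor V.ι).map ψ := by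
    let α' : Γ(M.restrict V.ι, ⊤) →ₗ[Γ(V, ⊤)] Γ(P.restrict V.ι, ⊤) :=
      { toFun := fun x => ((Scheme.Modules.restrictFunctor V.ι).map ψ).app ⊤ x
        map_add' := fun x y => map_add _ _ _
        map_smul' := fun r x => Scheme.Modules.Hom.app_smul ((Scheme.Modules.restrictFunctor V.ι).map ψ) r x }
    refine (Groth.Agent.CohqA.PullbackAffine.existsUnique_hom (M.restrict V.ι) (P.restrict V.ι) α').unique
      (fun x => ?_) (fun x => rfl)
    change φ.app (V.ι ''ᵁ ⊤) x = ψ.app (V.ι ''ᵁ ⊤) x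
    have key : ∀ V' : Y.Opens, V' = V → ∀ x : Γ(M, V'), φ.app V' x = ψ.app V' x := by
      rintro _ rfl x
      exact hφ x
    exact key _ hV1 x
  rw [← cancel_mono ((Scheme.Modules.restrictAdjunction V.ι).unit.app P)]
  refine ((Scheme.Modules.restrictAdjunction V.ι).unit_naturality φ).symm.trans ?_
  refine Eq.trans ?_ ((Scheme.Modules.restrictAdjunction V.ι).unit_naturality ψ)
  rw [h1]

/-- Pushforwards from `V` are local to `V`. -/
theorem localTo_pushforward (V : Y.Opens) (G : V.toScheme.Modules) :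
    LocalTo ((Scheme.Modules.pushforward V.ι).obj G) V := by
  intro O
  have h1 : V.ι ⁻¹ᵁ (V ⊓ O) = V.ι ⁻¹ᵁ O := by
    ext x
    exact ⟨fun hx => hx.2, fun hx => ⟨x.2, hx⟩⟩
  exact res_injective_of_eq G h1.le h1.symm

end Local

section Main

variable {X Y : Scheme.{u}} (h : X ⟶ Y)

/-- Scalar multiplication on the sections of a module over `h_* O_X`. -/
noncomputable def sm (N : SheafOfModules.{u} (pR h)) {O : Y.Opens} (r : Γ(X, h ⁻¹ᵁ O))
    (x : Γ((rs h).obj N, O)) : Γ((rs h).obj N, O) :=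
  (show (pR h).obj.obj (op O) from r) • (show N.val.obj (op O) from x)

theorem smul_eq_sm (N : SheafOfModules.{u} (pR h)) {O : Y.Opens} (r : Γ(Y, O))
    (x : Γ((rs h).obj N, O)) : r • x = sm h N (h.app O r) x := rfl

theorem sm_mul (N : SheafOfModules.{u} (pR h)) {O : Y.Opens} (r s : Γ(X, h ⁻¹ᵁ O))
    (x : Γ((rs h).obj N, O)) : sm h N (r * s) x = sm h N r (sm h N s x) :=
  mul_smul (show (pR h).obj.obj (op O) from r) (show (pR h).obj.obj (op O) from s)
    (show N.val.obj (op O) from x)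

theorem res_sm (N : SheafOfModules.{u} (pR h)) {O O' : Y.Opens} (hO : O' ≤ O) (r : Γ(X, h ⁻¹ᵁ O))
    (x : Γ((rs h).obj N, O)) :
    res ((rs h).obj N) hO (sm h N r x) = sm h N (resR (X := X) (h.preimage_mono hO) r)
      (res ((rs h).obj N) hO x) :=
  PresheafOfModules.map_smul N.val (homOfLE hO).op (show (pR h).obj.obj (op O) from r)
    (show N.val.obj (op O) from x)

theorem map_sm {N : SheafOfModules.{u} (pR h)} {P : X.Modules} (F : N ⟶ (vP h).obj P) {O : Y.Opens}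
    (r : Γ(X, h ⁻¹ᵁ O)) (x : Γ((rs h).obj N, O)) :
    (show Γ(P, h ⁻¹ᵁ O) from ((rs h).map F).app O (sm h N r x)) =
      r • (show Γ(P, h ⁻¹ᵁ O) from ((rs h).map F).app O x) :=
  (F.val.app (op O)).hom.map_smul (show (pR h).obj.obj (op O) from r)
    (show N.val.obj (op O) from x)

theorem exists_pow_mul_eq_resR {V : Y.Opens} (hV : IsAffineOpen (h ⁻¹ᵁ V)) (f : Γ(Y, V))
    (b : Γ(X, h ⁻¹ᵁ (Y.basicOpen f))) : ∃ (l : ℕ) (b' : Γ(X, h ⁻¹ᵁ V)),
      resR (X := X) (h.preimage_mono (Y.basicOpen_le f)) b' =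
        (h.app (Y.basicOpen f) (resR (Y.basicOpen_le f) f)) ^ l * b := by
  have h1 : h.app (Y.basicOpen f) (resR (Y.basicOpen_le f) f) =
      resR (X := X) (h.preimage_mono (Y.basicOpen_le f)) (h.app V f) := by
    have := h.naturality (homOfLE (Y.basicOpen_le f)).op
    exact congr($(this).hom f)
  rw [h1]
  have key : ∀ (O' : X.Opens) (hO' : O' ≤ h ⁻¹ᵁ V) (_ : O' = X.basicOpen (h.app V f)) (b : Γ(X, O')),
      ∃ (l : ℕ) (b' : Γ(X, h ⁻¹ᵁ V)), resR (X := X) hO' b' = (resR (X := X) hO' (h.app V f)) ^ l * b := by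
    rintro _ hO' rfl b
    obtain ⟨n, y, hy⟩ := exists_eq_pow_mul_of_isAffineOpen X _ hV (h.app V f) b
    exact ⟨n, y, hy⟩
  exact key _ _ (Scheme.preimage_basicOpen h f) b

theorem isUnit_app_resR {V : Y.Opens} (f : Γ(Y, V)) :
    IsUnit (h.app (Y.basicOpen f) (resR (Y.basicOpen_le f) f)) :=
  (Groth.Agent.CohqB.QC3.isUnit_resR_basicOpen f).map (h.app (Y.basicOpen f)).hom

theorem app_sm_basicOpen [IsAffineHom h] (N : SheafOfModules.{u} (pR h)) {V : Y.Opens} (hV : IsAffineOpen V)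
    (hN : Loc ((rs h).obj N) V) (P : X.Modules) (φ : (rs h).obj N ⟶ (Scheme.Modules.pushforward h).obj P)
    (hφ : ∀ (r : Γ(X, h ⁻¹ᵁ V)) (x : Γ((rs h).obj N, V)),
      (show Γ(P, h ⁻¹ᵁ V) from φ.app V (sm h N r x)) = r • (show Γ(P, h ⁻¹ᵁ V) from φ.app V x))
    (f : Γ(Y, V)) (b : Γ(X, h ⁻¹ᵁ (Y.basicOpen f))) (n : Γ((rs h).obj N, Y.basicOpen f)) :
    (show Γ(P, h ⁻¹ᵁ (Y.basicOpen f)) from φ.app (Y.basicOpen f) (sm h N b n)) =
      b • (show Γ(P, h ⁻¹ᵁ (Y.basicOpen f)) from φ.app (Y.basicOpen f) n) := by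
  obtain ⟨k, n', hn⟩ := hN.exists_lift f n
  obtain ⟨l, b', hb⟩ := exists_pow_mul_eq_resR h (hV.preimage h) f b
  obtain ⟨u, hu⟩ := isUnit_app_resR h f
  obtain ⟨F, hF⟩ : ∃ F : Γ(Y, Y.basicOpen f), F = resR (Y.basicOpen_le f) f := ⟨_, rfl⟩
  rw [← hF] at hn hb hu
  obtain ⟨F', hF'⟩ : ∃ F' : Γ(X, h ⁻¹ᵁ (Y.basicOpen f)), F' = h.app _ F := ⟨_, rfl⟩
  rw [← hF'] at hb hu
  have hFpow : ∀ m : ℕ, F' ^ m = h.app _ (F ^ m) := fun m => by
    rw [hF']
    exact (map_pow (h.app (Y.basicOpen f)).hom F m).symm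
  let Φ : Γ((rs h).obj N, Y.basicOpen f) → Γ(P, h ⁻¹ᵁ (Y.basicOpen f)) := fun x => φ.app (Y.basicOpen f) x
  have hΦs : ∀ (m : ℕ) (x : Γ((rs h).obj N, Y.basicOpen f)), Φ (sm h N (F' ^ m) x) = F' ^ m • Φ x := by
    intro m x
    rw [hFpow]
    exact Scheme.Modules.Hom.app_smul φ (F ^ m) x
  have hΦr : ∀ x : Γ((rs h).obj N, V), Φ (res _ (Y.basicOpen_le f) x) =
      res P (h.preimage_mono (Y.basicOpen_le f)) (show Γ(P, h ⁻¹ᵁ V) from φ.app V x) :=
    fun x => app_res φ (Y.basicOpen_le f) x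
  change Φ (sm h N b n) = b • Φ n
  have e1 : res _ (Y.basicOpen_le f) n' = sm h N (F' ^ k) n := by
    rw [hn, hFpow]
    rfl
  have e2 : Φ (sm h N (resR (X := X) (h.preimage_mono (Y.basicOpen_le f)) b') (res _ (Y.basicOpen_le f) n')) =
      resR (X := X) (h.preimage_mono (Y.basicOpen_le f)) b' • Φ (res _ (Y.basicOpen_le f) n') := by
    rw [← res_sm, hΦr, hφ, res_smul, hΦr]
  rw [hb, e1, ← sm_mul, hΦs, smul_smul,
    show F' ^ l * b * F' ^ k = F' ^ (l + k) * b by ring, sm_mul, hΦs, mul_smul] at e2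
  have e3 := congrArg (fun x => ((↑(u⁻¹) : Γ(X, h ⁻¹ᵁ (Y.basicOpen f))) ^ (l + k)) • x) e2
  simp only [smul_smul, ← mul_assoc] at e3
  rw [← mul_pow, ← hu, Units.inv_mul, one_pow, one_smul, one_mul] at e3
  exact e3

/-- Sections of modules local to `h⁻¹ V` over `h⁻¹ O` are determined on the `h⁻¹ D(f)`. -/
theorem ext_of_localTo (P : X.Modules) {V : Y.Opens} (hV : IsAffineOpen V) (hP : LocalTo P (h ⁻¹ᵁ V))
    {O : Y.Opens} (s t : Γ(P, h ⁻¹ᵁ O))
    (hst : ∀ (f : Γ(Y, V)) (hf : Y.basicOpen f ≤ O), res P (h.preimage_mono hf) s =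
      res P (h.preimage_mono hf) t) : s = t := by
  apply (hP (h ⁻¹ᵁ O)).1
  refine section_ext P (ι := {f : Γ(Y, V) // Y.basicOpen f ≤ O}) (fun f => h ⁻¹ᵁ (Y.basicOpen f.1))
    (fun f => le_inf (h.preimage_mono (Y.basicOpen_le _)) (h.preimage_mono f.2)) ?_ _ _ fun f => ?_
  · intro x hx
    obtain ⟨f, hf1, hf2⟩ := hV.exists_basicOpen_le (V := O) ⟨h x, hx.2⟩ hx.1
    exact Opens.mem_iSup.2 ⟨⟨f, hf1⟩, hf2⟩
  · rw [res_res, res_res]
    exact hst f.1 f.2

theorem app_sm [IsAffineHom h] (N : SheafOfModules.{u} (pR h)) {V : Y.Opens} (hV : IsAffineOpen V)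
    (hN : Loc ((rs h).obj N) V) (P : X.Modules) (hP : LocalTo P (h ⁻¹ᵁ V))
    (φ : (rs h).obj N ⟶ (Scheme.Modules.pushforward h).obj P)
    (hφ : ∀ (r : Γ(X, h ⁻¹ᵁ V)) (x : Γ((rs h).obj N, V)),
      (show Γ(P, h ⁻¹ᵁ V) from φ.app V (sm h N r x)) = r • (show Γ(P, h ⁻¹ᵁ V) from φ.app V x))
    (O : Y.Opens) (b : Γ(X, h ⁻¹ᵁ O)) (n : Γ((rs h).obj N, O)) :
    (show Γ(P, h ⁻¹ᵁ O) from φ.app O (sm h N b n)) =
      b • (show Γ(P, h ⁻¹ᵁ O) from φ.app O n) := by
  refine ext_of_localTo h P hV hP _ _ fun f hf => ?_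
  have h1 : ∀ x : Γ((rs h).obj N, O), (show Γ(P, h ⁻¹ᵁ (Y.basicOpen f)) from φ.app _ (res _ hf x)) =
      res P (h.preimage_mono hf) (show Γ(P, h ⁻¹ᵁ O) from φ.app O x) := fun x => app_res φ hf x
  rw [res_smul, ← h1, ← h1, res_sm]
  exact app_sm_basicOpen h N hV hN P φ hφ f _ _

theorem localTo_push {P : X.Modules} {V : Y.Opens} (hP : LocalTo P (h ⁻¹ᵁ V)) :
    LocalTo ((Scheme.Modules.pushforward h).obj P) V := fun O => hP (h ⁻¹ᵁ O)

theorem exists_vhom [IsAffineHom h] (N : SheafOfModules.{u} (pR h)) {V : Y.Opens} (hV : IsAffineOpen V)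
    (hN : Coh.IsQCoh ((rs h).obj N)) (P : X.Modules) (hP : LocalTo P (h ⁻¹ᵁ V))
    (α : Γ((rs h).obj N, V) →+ Γ(P, h ⁻¹ᵁ V))
    (hα : ∀ (r : Γ(X, h ⁻¹ᵁ V)) (x : Γ((rs h).obj N, V)), α (sm h N r x) = r • α x) :
    ∃ F : N ⟶ (vP h).obj P, ∀ x : Γ((rs h).obj N, V),
      (show Γ(P, h ⁻¹ᵁ V) from ((rs h).map F).app V x) = α x := by
  have : Coh.IsQCoh ((rs h).obj N) := hN
  obtain ⟨φ, hφ⟩ := exists_hom_of_localTo ((rs h).obj N) ((Scheme.Modules.pushforward h).obj P) hV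
    (Groth.Agent.Ega1.QCohLoc.isQCoh_restrict _ _) (localTo_push h hP) α
    (fun r x => hα (h.app V r) x)
  have hlin := app_sm h N hV (loc_of_isQuasicoherent _ hV) P hP φ (fun r x => by
    rw [show (show Γ(P, h ⁻¹ᵁ V) from φ.app V (sm h N r x)) = α (sm h N r x) from hφ _,
      show (show Γ(P, h ⁻¹ᵁ V) from φ.app V x) = α x from hφ x]
    exact hα r x)
  let F : N ⟶ (vP h).obj P :=
    { val :=
        { app := fun O => ModuleCat.ofHom (Y := ((vP h).obj P).val.obj O)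
            { toFun := fun x => (φ.app O.unop x : _)
              map_add' := fun x y => map_add (φ.app O.unop).hom x y
              map_smul' := fun r x => hlin O.unop r x }
          naturality := fun {O O'} f => by
            ext x
            exact app_res φ f.unop.le x } }
  refine ⟨F, fun x => hφ x⟩

theorem vhom_ext [IsAffineHom h] {N : SheafOfModules.{u} (pR h)} {V : Y.Opens} (hV : IsAffineOpen V)
    (hN : Coh.IsQCoh ((rs h).obj N)) {P : X.Modules} (hP : LocalTo P (h ⁻¹ᵁ V))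
    {F F' : N ⟶ (vP h).obj P}
    (hF : ∀ x : Γ((rs h).obj N, V), ((rs h).map F).app V x = ((rs h).map F').app V x) : F = F' := by
  have : Coh.IsQCoh ((rs h).obj N) := hN
  apply (rs h).map_injective
  exact hom_ext_of_localTo hV (Groth.Agent.Ega1.QCohLoc.isQCoh_restrict _ _) (localTo_push h hP) hF

end Main

end K991.CartMod
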